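import Mathlib
set_option linter.all false

/-!
# Partitions as strictly increasing tuples (helper38, S4536)
-/

set_option autoImplicit false

namespace Cfsg.Agent.H38.S4536

open Finset

theorem strict_add_le {m : ℕ} {β : Fin m → ℕ} (hβ : StrictMono β) :
    ∀ (d : ℕ) (i j : Fin m), (j : ℕ) = i + d → β i + d ≤ β j := by
  intro d
  induction d with
  | zero =>
    intro i j h
    have : i = j := Fin.ext (by omega)
    rw [this, add_zero]
  | succ d ih =>
    intro i j h
    have h1 : (i : ℕ) + d < m := by have := j.isLt; omega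
    have h2 := ih i ⟨i + d, h1⟩ rfl
    have h3 : β ⟨i + d, h1⟩ < β j := hβ (by rw [Fin.lt_def]; show (i : ℕ) + d < j; omega)
    omega

theorem strict_le {m : ℕ} {β : Fin m → ℕ} (hβ : StrictMono β) (i : Fin m) : (i : ℕ) ≤ β i := by
  have h0 : 0 < m := by have := i.isLt; omega
  have h1 := strict_add_le hβ i ⟨0, h0⟩ i (by show (i : ℕ) = 0 + i; omega)
  omega

theorem strict_mono_sub {m : ℕ} {β : Fin m → ℕ} (hβ : StrictMono β) : Monotone fun i : Fin m => β i - (i : ℕ) := by
  intro i j hij
  have h1 := strict_add_le hβ ((j : ℕ) - i) i j (by have : (i : ℕ) ≤ j := hij; omega)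
  have h2 : (i : ℕ) ≤ j := hij
  show β i - (i : ℕ) ≤ β j - (j : ℕ)
  omega

theorem sum_sub_of {m : ℕ} {β : Fin m → ℕ} (hβ : StrictMono β) {w : ℕ}
    (h : ∑ i, β i = w + ∑ i : Fin m, (i : ℕ)) : ∑ i, (β i - (i : ℕ)) = w := by
  have h1 : ∑ i, (β i - (i : ℕ)) + ∑ i : Fin m, (i : ℕ) = ∑ i, β i := by
    rw [← Finset.sum_add_distrib]
    exact Finset.sum_congr rfl fun i _ => Nat.sub_add_cancel (strict_le hβ i)
  omega

theorem exists_ofFn {m : ℕ} {L : List ℕ} (h : L.length = m) : ∃ α : Fin m → ℕ, List.ofFn α = L := by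
  subst h
  exact ⟨L.get, List.ofFn_get L⟩

theorem card_parts_le {w : ℕ} (π : Nat.Partition w) : Multiset.card π.parts ≤ w := by
  have h := Multiset.card_nsmul_le_sum (s := π.parts) (a := 1) fun x hx => π.parts_pos hx
  rwa [π.parts_sum, smul_eq_mul, mul_one] at h

theorem eq_of_filter {M M' : Multiset ℕ} (hc : Multiset.card M = Multiset.card M')
    (h : M.filter (· ≠ 0) = M'.filter (· ≠ 0)) : M = M' := by
  have key : ∀ M : Multiset ℕ, M = M.filter (· ≠ 0) +
      Multiset.replicate (Multiset.card M - Multiset.card (M.filter (· ≠ 0))) 0 := by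
    intro M
    have h1 : M.filter (fun x => ¬ x ≠ 0) = Multiset.replicate (Multiset.card (M.filter (fun x => ¬ x ≠ 0))) 0 :=
      Multiset.eq_replicate_card.2 fun x hx => not_not.1 (Multiset.mem_filter.1 hx).2
    have h2 := Multiset.filter_add_not (· ≠ 0) M
    have h3 := congrArg Multiset.card h2
    rw [Multiset.card_add] at h3
    have h4 : Multiset.card M - Multiset.card (M.filter (· ≠ 0)) = Multiset.card (M.filter (fun x => ¬ x ≠ 0)) := by
      omega
    rw [h4, ← h1]
    exact h2.symm
  rw [key M, key M', hc, h]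

/-- partitions as strictly increasing tuples -/
theorem card_tuples {m w : ℕ} (h : w ≤ m) :
    Nat.card {β : Fin m → ℕ // StrictMono β ∧ ∑ i, β i = w + ∑ i : Fin m, (i : ℕ)} =
      Fintype.card (Nat.Partition w) := by
  rw [← Nat.card_eq_fintype_card]
  have hs : ∀ β : {β : Fin m → ℕ // StrictMono β ∧ ∑ i, β i = w + ∑ i : Fin m, (i : ℕ)},
      ((List.ofFn fun i : Fin m => β.1 i - (i : ℕ) : List ℕ) : Multiset ℕ).sum = w := by
    intro β
    rw [Multiset.sum_coe, List.sum_ofFn]
    exact sum_sub_of β.2.1 β.2.2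
  refine Nat.card_eq_of_bijective
    (fun β => Nat.Partition.ofSums w ((List.ofFn fun i : Fin m => β.1 i - (i : ℕ) : List ℕ) : Multiset ℕ) (hs β))
    ⟨?_, ?_⟩
  · intro β β' hb
    have h1 : (((List.ofFn fun i : Fin m => β.1 i - (i : ℕ) : List ℕ) : Multiset ℕ)).filter (· ≠ 0) =
        (((List.ofFn fun i : Fin m => β'.1 i - (i : ℕ) : List ℕ) : Multiset ℕ)).filter (· ≠ 0) :=
      congrArg Nat.Partition.parts hb
    have h2 := eq_of_filter (by rw [Multiset.coe_card, Multiset.coe_card, List.length_ofFn, List.length_ofFn]) h1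
    rw [Multiset.coe_eq_coe] at h2
    have h3 := h2.eq_of_pairwise' (List.sortedLE_ofFn_iff.2 (strict_mono_sub β.2.1)).pairwise
      (List.sortedLE_ofFn_iff.2 (strict_mono_sub β'.2.1)).pairwise
    have h4 := List.ofFn_injective h3
    apply Subtype.ext
    funext i
    have h5 : β.1 i - (i : ℕ) = β'.1 i - (i : ℕ) := congrFun h4 i
    have h6 := strict_le β.2.1 i
    have h7 := strict_le β'.2.1 i
    omega
  · intro π
    set M : Multiset ℕ := π.parts + Multiset.replicate (m - Multiset.card π.parts) 0 with hM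
    have hc : Multiset.card M = m := by
      rw [hM, Multiset.card_add, Multiset.card_replicate]
      have := card_parts_le π
      omega
    obtain ⟨α, hα⟩ := exists_ofFn (m := m) (L := M.sort) (by rw [Multiset.length_sort, hc])
    have hmono : Monotone α := by
      rw [← List.sortedLE_ofFn_iff, hα, List.sortedLE_iff_pairwise]
      exact Multiset.pairwise_sort _ _
    have hM2 : ((List.ofFn α : List ℕ) : Multiset ℕ) = M := by rw [hα, Multiset.sort_eq]
    have hsum : ∑ i, α i = w := by
      rw [← List.sum_ofFn, ← Multiset.sum_coe, hM2, hM, Multiset.sum_add, Multiset.sum_replicate, smul_zero, add_zero,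
        π.parts_sum]
    refine ⟨⟨fun i => α i + (i : ℕ), ?_, ?_⟩, ?_⟩
    · intro i j hij
      have h1 := hmono hij.le
      have h2 : (i : ℕ) < j := hij
      show α i + (i : ℕ) < α j + (j : ℕ)
      omega
    · rw [Finset.sum_add_distrib, hsum]
    · apply Nat.Partition.ext
      show Multiset.filter (· ≠ 0) ((List.ofFn fun i : Fin m => α i + (i : ℕ) - (i : ℕ) : List ℕ) : Multiset ℕ) = _
      have h1 : (fun i : Fin m => α i + (i : ℕ) - (i : ℕ)) = α := funext fun i => Nat.add_sub_cancel _ _
      rw [h1, hM2, hM, Multiset.filter_add]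
      have h2 : π.parts.filter (· ≠ 0) = π.parts :=
        Multiset.filter_eq_self.2 fun x hx => (π.parts_pos hx).ne'
      have h3 : (Multiset.replicate (m - Multiset.card π.parts) 0).filter (· ≠ 0) = 0 :=
        Multiset.filter_eq_nil.2 fun x hx hn => hn (Multiset.eq_of_mem_replicate hx)
      rw [h2, h3, add_zero]

end Cfsg.Agent.H38.S4536
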